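import Groth.Agent.S2204
import Mathlib.Algebra.Category.ModuleCat.Algebra
import Mathlib.CategoryTheory.Linear.LinearFunctor

/-!
# Right exact functors of module categories and bimodules
-/

set_option autoImplicit false
set_option linter.style.haveILetI false

universe u

open CategoryTheory CategoryTheory.Limits TensorProduct
open scoped ModuleCat.Algebra

noncomputable section

namespace GrothLib.EW20

variable {A B : Type u} [CommRing A] [CommRing B]

/-- A presentation of a functor as tensoring with a bimodule. -/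
structure Repr (F : ModuleCat.{u} A ⥤ ModuleCat.{u} B) where
  K : Type u
  [grp : AddCommGroup K]
  [modA : Module A K]
  [modB : Module B K]
  [comm : SMulCommClass A B K]
  η : ∀ M : ModuleCat.{u} A, (K ⊗[A] M) ≃ₗ[B] F.obj M
  nat : ∀ (M N : ModuleCat.{u} A) (f : M ⟶ N) (x : K ⊗[A] M),
    η N (LinearMap.lTensor K f.hom x) = F.map f (η M x)

attribute [instance] Repr.grp Repr.modA Repr.modB Repr.comm

theorem exists_repr (F : ModuleCat.{u} A ⥤ ModuleCat.{u} B) [PreservesFiniteColimits F]
    [∀ J : Type u, PreservesColimitsOfShape (Discrete J) F] : Nonempty (Repr F) := by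
  obtain ⟨K, i₁, i₂, i₃, i₄, η, hη⟩ := Groth.Agent.S2204.result A B F inferInstance
  exact ⟨@Repr.mk _ _ _ _ F K i₁ i₂ i₃ i₄ η hη⟩

variable {F F' : ModuleCat.{u} A ⥤ ModuleCat.{u} B} (r : Repr F) (r' : Repr F')

/-- The rank one free module. -/
abbrev A₁ (A : Type u) [CommRing A] : ModuleCat.{u} A := ModuleCat.of A A

/-- The element of `F A` attached to an element of the bimodule. -/
def elt (k : r.K) : F.obj (A₁ A) := r.η (A₁ A) (k ⊗ₜ (1 : A))

theorem η_tmul (M : ModuleCat.{u} A) (k : r.K) (m : M) :
    r.η M (k ⊗ₜ m) = F.map (ModuleCat.ofHom (LinearMap.toSpanSingleton A M m)) (elt r k) := by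
  rw [elt, ← r.nat]
  congr 1
  exact congrArg (k ⊗ₜ[A] ·) (one_smul A m).symm

theorem elt_smul (a : A) (k : r.K) :
    elt r (a • k) = F.map (a • 𝟙 (A₁ A)) (elt r k) := by
  rw [elt, elt, ← r.nat, TensorProduct.smul_tmul]
  rfl

theorem elt_smul' (b : B) (k : r.K) : elt r (b • k) = b • elt r k := by
  rw [elt, elt, ← map_smul, TensorProduct.smul_tmul']

theorem elt_bijective : Function.Bijective (elt r) := by
  have : elt r = r.η (A₁ A) ∘ (TensorProduct.rid A r.K).symm := funext fun k => by
    simp [elt]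
  rw [this]
  exact (r.η (A₁ A)).bijective.comp (TensorProduct.rid A r.K).symm.bijective

include r in
theorem natTrans_ext {t t' : F ⟶ F'} (h : t.app (A₁ A) = t'.app (A₁ A)) : t = t' := by
  ext M : 2
  refine ModuleCat.hom_ext (LinearMap.ext fun y => ?_)
  obtain ⟨z, rfl⟩ := (r.η M).surjective y
  induction z using TensorProduct.induction_on with
  | zero => simp
  | add a b ha hb =>
    rw [map_add]
    exact (map_add _ _ _).trans ((congrArg₂ (· + ·) ha hb).trans (map_add _ _ _).symm)
  | tmul k m =>
    rw [η_tmul]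
    refine (NatTrans.naturality_apply t _ _).trans ((congrArg _ ?_).trans (NatTrans.naturality_apply t' _ _).symm)
    rw [h]

theorem exists_natTrans (φ : F.obj (A₁ A) ⟶ F'.obj (A₁ A))
    (hφ : ∀ a : A, F.map (a • 𝟙 (A₁ A)) ≫ φ = φ ≫ F'.map (a • 𝟙 (A₁ A)))
    (r : Repr F) (r' : Repr F') : ∃ t : F ⟶ F', t.app (A₁ A) = φ := by
  choose g hg using fun y => (elt_bijective r').2 y
  have hinj := (elt_bijective r').1
  let ψ : r.K →ₗ[A] r'.K :=
    { toFun := fun k => g (φ (elt r k))
      map_add' := fun k l => hinj (by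
        rw [hg]
        have he : ∀ {G : ModuleCat.{u} A ⥤ ModuleCat.{u} B} (s : Repr G) (p q : s.K),
            elt s (p + q) = elt s p + elt s q := fun s p q => by
          rw [elt, TensorProduct.add_tmul, map_add]; rfl
        rw [he, he, hg, hg, map_add])
      map_smul' := fun a k => hinj (by
        rw [hg, RingHom.id_apply, elt_smul, elt_smul, hg]
        exact ConcreteCategory.congr_hom (hφ a) (elt r k)) }
  have hψB : ∀ (b : B) (k : r.K), ψ (b • k) = b • ψ k := fun b k => hinj (by
    change elt r' (g _) = elt r' (b • g _)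
    rw [hg, elt_smul', elt_smul', hg, map_smul])
  have hlin : ∀ (M : ModuleCat.{u} A) (b : B) (x : r.K ⊗[A] M),
      LinearMap.rTensor M ψ (b • x) = b • LinearMap.rTensor M ψ x := fun M b x => by
    induction x using TensorProduct.induction_on with
    | zero => simp
    | add p q hp hq => simp only [smul_add, map_add, hp, hq]
    | tmul k m =>
      rw [TensorProduct.smul_tmul', LinearMap.rTensor_tmul, LinearMap.rTensor_tmul, hψB,
        TensorProduct.smul_tmul']
  let L : ∀ M : ModuleCat.{u} A, (r.K ⊗[A] M) →ₗ[B] (r'.K ⊗[A] M) := fun M =>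
    { toFun := LinearMap.rTensor M ψ
      map_add' := map_add _
      map_smul' := hlin M }
  let t : F ⟶ F' :=
    { app := fun M => ModuleCat.ofHom ((r'.η M).toLinearMap ∘ₗ L M ∘ₗ (r.η M).symm.toLinearMap)
      naturality := fun M N f => ModuleCat.hom_ext (LinearMap.ext fun y => by
        obtain ⟨x, rfl⟩ := (r.η M).surjective y
        change r'.η N (LinearMap.rTensor N ψ ((r.η N).symm (F.map f (r.η M x)))) =
          F'.map f (r'.η M (LinearMap.rTensor M ψ ((r.η M).symm (r.η M x))))
        rw [← r.nat, LinearEquiv.symm_apply_apply, LinearEquiv.symm_apply_apply, ← r'.nat,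
          ← LinearMap.comp_apply, ← LinearMap.comp_apply, LinearMap.rTensor_comp_lTensor,
          LinearMap.lTensor_comp_rTensor]) }
  refine ⟨t, ModuleCat.hom_ext (LinearMap.ext fun y => ?_)⟩
  obtain ⟨k, rfl⟩ := (elt_bijective r).2 y
  change r'.η _ (LinearMap.rTensor _ ψ ((r.η _).symm (r.η (A₁ A) (k ⊗ₜ (1 : A))))) = _
  rw [LinearEquiv.symm_apply_apply, LinearMap.rTensor_tmul]
  exact hg _

theorem natTrans_commutes (t : F ⟶ F') (a : A) :
    F.map (a • 𝟙 (A₁ A)) ≫ t.app (A₁ A) = t.app (A₁ A) ≫ F'.map (a • 𝟙 (A₁ A)) :=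
  t.naturality _

theorem compatible {R : Type u} [CommRing R] [Algebra R A] [Algebra R B] [F.Additive] [F.Linear R]
    (s : R) (x : r.K) : algebraMap R A s • x = algebraMap R B s • x := by
  refine (elt_bijective r).1 ?_
  rw [elt_smul, elt_smul']
  have h2 : F.map (algebraMap R A s • 𝟙 (A₁ A)) = s • 𝟙 (F.obj (A₁ A)) := by
    refine (congrArg F.map ?_).trans
      ((Functor.Linear.map_smul (F := F) (𝟙 (A₁ A)) s).trans (congrArg (s • ·) (F.map_id _)))
    refine ModuleCat.hom_ext (LinearMap.ext fun z => ?_)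
    change algebraMap R A s * (show A from z) = algebraMap R A s * (show A from z)
    rfl
  rw [h2]
  exact (algebraMap_smul B s (elt r x)).symm

end GrothLib.EW20
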